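import Groth.Agent.EtGenLib.Setup
import Groth.Agent.S0503
import Groth.Agent.S0507
import Groth.Agent.S0509
import Groth.Agent.S0510
import Groth.Agent.S0511
import Groth.Agent.S5035
import Groth.Agent.S9238
import Groth.Agent.CatLib.CplEquiv
import Groth.Agent.CommAlgDim.Integral
import Groth.Agent.HenselBranchLib.NormTensor
import Groth.Agent.HenselBranchLib.IntegralHens
import Groth.Agent.EtLocalRingLib.IntegralOverHensel

/-!
# Branches of dimension at most one of a local ring, of its henselizations and of its completion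
-/

set_option autoImplicit false
set_option maxHeartbeats 1000000
set_option linter.style.haveILetI false
set_option synthInstance.maxHeartbeats 400000

universe u

open IsLocalRing EGA4 TensorProduct

namespace EtGenLib

/-- Every irreducible component has dimension at least two. -/
def Big (T : Type u) [CommRing T] : Prop := ∀ p ∈ minimalPrimes T, (2 : WithBot ℕ∞) ≤ ringKrullDim (T ⧸ p)

theorem le_one_of_lt_two {x : WithBot ℕ∞} (h : x < 2) : x ≤ 1 := by
  induction x using WithBot.recBotCoe with
  | bot => exact bot_le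
  | coe a =>
    induction a using ENat.recTopCoe with
    | top => exact absurd (WithBot.coe_lt_coe.1 h) (by simp)
    | coe n =>
      have h' : n < 2 := Nat.cast_lt.1 (show (n : ℕ∞) < ((2 : ℕ) : ℕ∞) from WithBot.coe_lt_coe.1 h)
      exact_mod_cast (show n ≤ 1 by omega)

theorem le_zero_of_lt_one {x : WithBot ℕ∞} (h : x < 1) : x ≤ 0 := by
  induction x using WithBot.recBotCoe with
  | bot => exact bot_le
  | coe a => exact WithBot.coe_le_coe.2 (ENat.lt_one_iff_eq_zero.1 (WithBot.coe_lt_coe.1 h)).le

theorem exists_equiv_quot_map {R S : Type u} [CommRing R] [CommRing S] (φ : R →+* S) (hφ : Function.Surjective φ)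
    (Q : Ideal R) (hQ : RingHom.ker φ ≤ Q) : Nonempty (R ⧸ Q ≃+* S ⧸ Q.map φ) := by
  have hc : (Q.map φ).comap φ = Q := by
    rw [Ideal.comap_map_of_surjective φ hφ, ← RingHom.ker_eq_comap_bot, sup_eq_left.2 hQ]
  refine ⟨RingEquiv.ofBijective (Ideal.quotientMap (Q.map φ) φ hc.ge) ⟨?_, ?_⟩⟩
  · exact Ideal.quotientMap_injective' hc.le
  · exact Ideal.quotientMap_surjective hφ

theorem map_mem_minimalPrimes {R S : Type u} [CommRing R] [CommRing S] (φ : R →+* S) (hφ : Function.Surjective φ)
    (Q : Ideal R) (hQm : Q ∈ minimalPrimes R) (hQ : RingHom.ker φ ≤ Q) : Q.map φ ∈ minimalPrimes S := by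
  haveI := hQm.1.1
  refine ⟨⟨Ideal.map_isPrime_of_surjective hφ hQ, bot_le⟩, fun P hP hle => ?_⟩
  haveI := hP.1
  have hc : (Q.map φ).comap φ = Q := by
    rw [Ideal.comap_map_of_surjective φ hφ, ← RingHom.ker_eq_comap_bot, sup_eq_left.2 hQ]
  have h1 : Q ≤ P.comap φ := hQm.2 ⟨inferInstance, bot_le⟩ ((Ideal.comap_mono hle).trans hc.le)
  exact Ideal.map_le_iff_le_comap.2 h1

theorem big_of_equiv {R S : Type u} [CommRing R] [CommRing S] (e : R ≃+* S) (h : Big S) : Big R := by
  intro Q hQ
  have hker : RingHom.ker (e : R →+* S) ≤ Q := by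
    exact fun x hx => by rw [show x = 0 from e.injective (by rw [map_zero]; exact hx)]; exact zero_mem _
  obtain ⟨e'⟩ := exists_equiv_quot_map (e : R →+* S) e.surjective Q hker
  rw [ringKrullDim_eq_of_ringEquiv e']
  exact h _ (map_mem_minimalPrimes (e : R →+* S) e.surjective Q hQ hker)

theorem big_iff_of_equiv {R S : Type u} [CommRing R] [CommRing S] (e : R ≃+* S) : Big R ↔ Big S :=
  ⟨big_of_equiv e.symm, big_of_equiv e⟩

theorem exists_minimal_over {R T : Type u} [CommRing R] [CommRing T] [Algebra R T] [Module.FaithfullyFlat R T]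
    (p : Ideal R) (hp : p ∈ minimalPrimes R) :
    ∃ q ∈ minimalPrimes T, q.comap (algebraMap R T) = p := by
  haveI := hp.1.1
  obtain ⟨Q, hQ⟩ := PrimeSpectrum.comap_surjective_of_faithfullyFlat (B := T) ⟨p, hp.1.1⟩
  obtain ⟨q, hq, hqQ⟩ := Ideal.exists_minimalPrimes_le (I := (⊥ : Ideal T)) (J := Q.asIdeal) bot_le
  haveI := hq.1.1
  have h1 : q.comap (algebraMap R T) ≤ p :=
    (Ideal.comap_mono hqQ).trans (congrArg PrimeSpectrum.asIdeal hQ).le
  exact ⟨q, hq, le_antisymm h1 (hp.2 ⟨inferInstance, bot_le⟩ h1)⟩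

theorem comap_mem_minimalPrimes {R T : Type u} [CommRing R] [CommRing T] [Algebra R T] [Module.Flat R T]
    (q : Ideal T) (hq : q ∈ minimalPrimes T) : q.comap (algebraMap R T) ∈ minimalPrimes R := by
  haveI := hq.1.1
  refine ⟨⟨inferInstance, bot_le⟩, fun p hp hle => ?_⟩
  haveI := hp.1
  haveI : q.LiesOver (q.comap (algebraMap R T)) := ⟨rfl⟩
  obtain ⟨q', hle', hq', hlo⟩ := Ideal.exists_ideal_le_liesOver_of_le (R := R) (S := T) q (p := p)
    (q := q.comap (algebraMap R T)) hle
  have h1 : q ≤ q' := hq.2 ⟨hq', bot_le⟩ hle'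
  rw [hlo.over]
  exact Ideal.comap_mono h1

theorem dim_quot_eq_of_integral (R T : Type u) [CommRing R] [CommRing T] [Algebra R T] [Algebra.IsIntegral R T]
    (P : Ideal T) : ringKrullDim (T ⧸ P) = ringKrullDim (R ⧸ P.comap (algebraMap R T)) := by
  haveI : P.LiesOver (P.comap (algebraMap R T)) := ⟨rfl⟩
  haveI : Algebra.IsIntegral R (T ⧸ P) := ⟨fun z => by
    obtain ⟨t, rfl⟩ := Ideal.Quotient.mk_surjective z
    exact (Algebra.IsIntegral.isIntegral (R := R) t).map (Ideal.Quotient.mkₐ R P)⟩
  haveI : Algebra.IsIntegral (R ⧸ P.comap (algebraMap R T)) (T ⧸ P) := ⟨fun z =>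
    (Algebra.IsIntegral.isIntegral (R := R) z).tower_top⟩
  exact CommAlgDim.ringKrullDim_eq_of_integral _ _ (FaithfulSMul.algebraMap_injective _ _)

theorem big_iff_of_integral (R T : Type u) [CommRing R] [CommRing T] [Algebra R T] [Algebra.IsIntegral R T]
    [Module.FaithfullyFlat R T] : Big R ↔ Big T := by
  refine ⟨fun h q hq => ?_, fun h p hp => ?_⟩
  · rw [dim_quot_eq_of_integral R T q]
    exact h _ (comap_mem_minimalPrimes q hq)
  · obtain ⟨q, hq, rfl⟩ := exists_minimal_over (T := T) p hp
    rw [← dim_quot_eq_of_integral R T q]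
    exact h q hq

/-- A henselian local ring has a small branch if and only if its completion has one. -/
theorem big_cpl_iff (T : Type u) [CommRing T] [HenselianLocalRing T] [IsNoetherianRing T] : Big T ↔ Big (Cpl T) := by
  haveI : Module.Flat T (Cpl T) := AdicCompletion.flat_of_isNoetherian _
  haveI := AdicRingLib.isNoetherianRing_adicCompletion (maximalIdeal T)
  have hm : maximalIdeal (Cpl T) = (maximalIdeal T).map (algebraMap T (Cpl T)) := AdicCompletion.maximalIdeal_eq_map ..
  haveI : IsLocalHom (algebraMap T (Cpl T)) := by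
    refine (IsLocalRing.local_hom_TFAE _).out 2 0 |>.1 ?_
    exact hm.ge
  haveI : Module.FaithfullyFlat T (Cpl T) := Module.FaithfullyFlat.of_flat_of_isLocalHom
  refine ⟨fun h Q hQ => ?_, fun h P hP => ?_⟩
  · haveI := hQ.1.1
    by_contra hlt
    rw [not_le] at hlt
    let P := Q.comap (algebraMap T (Cpl T))
    have hP : P ∈ minimalPrimes T := comap_mem_minimalPrimes Q hQ
    haveI : P.IsPrime := hP.1.1
    have h2 := h P hP
    haveI : Nontrivial (T ⧸ P) := Ideal.Quotient.nontrivial_iff.2 hP.1.1.ne_top
    obtain ⟨e⟩ := exists_quot_equiv T P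
    let φ : Cpl T →+* Cpl (T ⧸ P) := (e : _ →+* _).comp (Ideal.Quotient.mk (P.map (algebraMap T (Cpl T))))
    have hφ : Function.Surjective φ := e.surjective.comp Ideal.Quotient.mk_surjective
    have hker : RingHom.ker φ ≤ Q := by
      intro x hx
      have hx' : Ideal.Quotient.mk (P.map (algebraMap T (Cpl T))) x = 0 :=
        e.injective (by rw [map_zero]; exact hx)
      exact (Ideal.map_le_iff_le_comap.2 le_rfl : P.map (algebraMap T (Cpl T)) ≤ Q) (Ideal.Quotient.eq_zero_iff_mem.1 hx')
    obtain ⟨e'⟩ := exists_equiv_quot_map φ hφ Q hker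
    rw [ringKrullDim_eq_of_ringEquiv e'] at hlt
    haveI : IsLocalRing (T ⧸ P) := IsLocalRing.of_surjective' _ Ideal.Quotient.mk_surjective
    haveI : HenselianLocalRing (T ⧸ P) :=
      HenselBranchLib.henselianLocalRing_of_isIntegral' T (T ⧸ P)
    have hQ' := map_mem_minimalPrimes φ hφ Q hQ hker
    haveI := hQ'.1.1
    have h1 : (1 : WithBot ℕ∞) ≤ ringKrullDim (Cpl (T ⧸ P) ⧸ Q.map φ) := by
      by_contra h0
      rw [not_le] at h0
      haveI : Ring.KrullDimLE 0 (Cpl (T ⧸ P) ⧸ Q.map φ) :=
        Ring.krullDimLE_iff.2 (le_zero_of_lt_one h0)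
      have hmax : (Q.map φ).IsMaximal :=
        Ideal.Quotient.maximal_of_isField _ Ring.KrullDimLE.isField_of_isDomain
      have hQmax : Q.IsMaximal := by
        rw [show Q = (Q.map φ).comap φ by
          rw [Ideal.comap_map_of_surjective φ hφ, ← RingHom.ker_eq_comap_bot, sup_eq_left.2 hker]]
        exact Ideal.comap_isMaximal_of_surjective φ hφ
      have hPm : P = maximalIdeal T := by
        show Q.comap _ = _
        rw [IsLocalRing.eq_maximalIdeal hQmax]
        exact ((IsLocalRing.local_hom_TFAE (algebraMap T (Cpl T))).out 0 4 :).1 inferInstance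
      have : ringKrullDim (T ⧸ P) = 0 := by
        rw [hPm]
        exact ringKrullDim_eq_zero_of_isField
          ((Ideal.Quotient.maximal_ideal_iff_isField_quotient _).1 (maximalIdeal.isMaximal T))
      rw [this] at h2
      exact absurd h2 (by decide)
    have h3 := dim_eq_one_of_branch (T ⧸ P) (Q.map φ) hQ' (le_antisymm (le_one_of_lt_two hlt) h1)
    rw [h3] at h2
    exact absurd h2 (by decide)
  · haveI := hP.1.1
    obtain ⟨q, hq, hqP⟩ := exists_minimal_over (T := Cpl T) P hP
    refine (h q hq).trans ?_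
    haveI : Nontrivial (T ⧸ P) := Ideal.Quotient.nontrivial_iff.2 hP.1.1.ne_top
    rw [← dim_quot T P]
    have hle : P.map (algebraMap T (Cpl T)) ≤ q := Ideal.map_le_iff_le_comap.2 hqP.ge
    exact ringKrullDim_le_of_surjective (Ideal.Quotient.factor hle) (Ideal.Quotient.factor_surjective hle)

/-- A strict henselization of a henselian local ring is integral over it. -/
theorem isIntegral_of_etCov (R T : Type u) [CommRing R] [HenselianLocalRing R] [CommRing T] [IsLocalRing T]
    [Algebra R T] [IsLocalHom (algebraMap R T)] [Module.Flat R T] (hcov : ∀ x : T, HenselLib.EtCov (R := R) x) :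
    Algebra.IsIntegral R T := by
  refine ⟨fun x => ?_⟩
  obtain ⟨U, _, _, _, q, _, ψ, hψ, -, hs⟩ := HenselLib.exists_local_cover hcov {x}
  obtain ⟨y, rfl⟩ := hs x (Finset.mem_singleton_self x)
  haveI : q.LiesOver (maximalIdeal R) := ⟨by
    haveI := hψ
    have h1 : (maximalIdeal T).comap (ψ : Localization.AtPrime q →+* T) = maximalIdeal (Localization.AtPrime q) :=
      ((IsLocalRing.local_hom_TFAE (ψ : Localization.AtPrime q →+* T)).out 0 4 :).1 hψ
    have h2 : (maximalIdeal T).comap (algebraMap R T) = maximalIdeal R :=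
      ((IsLocalRing.local_hom_TFAE (algebraMap R T)).out 0 4 :).1 inferInstance
    rw [← h2, ← ψ.comp_algebraMap, ← Ideal.comap_comap, h1, IsScalarTower.algebraMap_eq R U (Localization.AtPrime q),
      ← Ideal.comap_comap,
      show (maximalIdeal (Localization.AtPrime q)).comap (algebraMap U (Localization.AtPrime q)) = q from
        Localization.AtPrime.under_maximalIdeal, Ideal.under_def]⟩
  haveI : Module.Finite R (Localization.AtPrime q) :=
    (Groth.Agent.S5035.result R).1 ‹_› U q inferInstance inferInstance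
  exact (Algebra.IsIntegral.isIntegral (R := R) y).map ψ

/-- The strict henselizations of a local ring and of its completion have small branches together. -/
theorem big_strict_iff (A : Type u) [CommRing A] [IsNoetherianRing A] [IsLocalRing A]
    (S : Type u) [CommRing S] [IsLocalRing S] [Algebra A S] [IsLocalHom (algebraMap A S)]
    [Hensel.IsStrictHenselization A S] : Big S ↔ Big (Cpl A) := by
  haveI := AdicRingLib.isNoetherianRing_adicCompletion (maximalIdeal A)
  haveI : HenselianLocalRing (Cpl A) := HenselBranchLib.henselianLocalRing_completion A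
  let T := HenselLib.SH (Cpl A)
  haveI : IsNoetherianRing S := (Groth.Agent.S0540.result A S).1 inferInstance
  haveI : IsNoetherianRing T := (Groth.Agent.S0540.result (Cpl A) T).1 inferInstance
  haveI : HenselianLocalRing S := Hensel.IsStrictHenselization.henselian A
  haveI : HenselianLocalRing T := Hensel.IsStrictHenselization.henselian (Cpl A)
  obtain ⟨g, e, -, -⟩ := exists_comparison A S T
  haveI : Module.FaithfullyFlat (Cpl A) T := Groth.Agent.S0539.result (Cpl A) T
  haveI := isIntegral_of_etCov (Cpl A) T (HenselLib.etCov_hens _)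
  rw [big_cpl_iff S, big_iff_of_equiv e, ← big_cpl_iff T, ← big_iff_of_integral (Cpl A) T]

/-- The henselization and the completion have small branches together. -/
theorem big_hens_iff (A : Type u) [CommRing A] [IsNoetherianRing A] [IsLocalRing A]
    (S : Type u) [CommRing S] [IsLocalRing S] [Algebra A S] [IsLocalHom (algebraMap A S)]
    [Hensel.IsHenselization A S] : Big S ↔ Big (Cpl A) := by
  haveI : Module.FaithfullyFlat A S := Groth.Agent.S0509.result A S
  haveI : IsNoetherianRing S := (Groth.Agent.S0511.result A S).1 inferInstance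
  haveI : HenselianLocalRing S := Hensel.IsHenselization.henselian A
  have hm := Groth.Agent.S0507.result A S
  obtain ⟨e⟩ := CatLib.exists_cpl_equiv_of_faithfullyFlat A S hm fun n b => by
    obtain ⟨x, hx⟩ := (Groth.Agent.S0510.result A S n).2 (Ideal.Quotient.mk _ b)
    obtain ⟨a, rfl⟩ := Ideal.Quotient.mk_surjective x
    rw [Ideal.quotientMap_mk, Ideal.Quotient.eq, Ideal.map_pow, hm] at hx
    exact ⟨a, neg_sub (algebraMap A S a) b ▸ neg_mem hx⟩
  rw [big_cpl_iff S]
  exact (big_iff_of_equiv e).symm

section Norm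

variable (A : Type u) [CommRing A] [IsLocalRing A]
  (S : Type u) [CommRing S] [IsLocalRing S] [Algebra A S] [IsLocalHom (algebraMap A S)]
  [Hensel.IsStrictHenselization A S] (N : Type u) [CommRing N] [Algebra A N] (hB : HenselBranchLib.IsNormRed A N)

local notation "T" => N ⊗[A] S

attribute [local instance] Algebra.TensorProduct.rightAlgebra

include hB in
/-- The maximal ideals of the normalization correspond to the branches of the strict henselization. -/
theorem big_norm_iff : (∀ m' : MaximalSpectrum N,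
      (2 : WithBot ℕ∞) ≤ ringKrullDim (Localization.AtPrime m'.asIdeal)) ↔ Big S := by
  haveI : HenselianLocalRing S := Hensel.IsStrictHenselization.henselian (R := A)
  haveI : Module.FaithfullyFlat A S := Groth.Agent.S0539.result A S
  obtain ⟨e⟩ := HenselLib.nonempty_algEquiv_SH (R := A) S
  have hcov := HenselLib.etCov_of_algEquiv e (HenselLib.etCov_hens _)
  haveI := hB.isIntegral
  haveI := HenselBranchLib.isIntegral_normTensor A S N
  haveI : Module.FaithfullyFlat N T := inferInstance
  have hbij := HenselBranchLib.bijOn_minimalPrimes A S N hB hcov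
  -- the branch through a maximal ideal
  have hloc : ∀ (M : Ideal T) [M.IsMaximal] (P : Ideal T), P ∈ minimalPrimes T → P ≤ M →
      ringKrullDim (Localization.AtPrime M) = ringKrullDim (T ⧸ P) := by
    intro M _ P hP hPM
    haveI := hP.1.1
    have hset : Set.Iic (⟨M, inferInstance⟩ : PrimeSpectrum T) = PrimeSpectrum.zeroLocus (P : Set T) := by
      ext x
      rw [Set.mem_Iic, PrimeSpectrum.mem_zeroLocus, SetLike.coe_subset_coe]
      refine ⟨fun hx => ?_, fun hx => ?_⟩
      · obtain ⟨P', hP', hle⟩ := Ideal.exists_minimalPrimes_le (I := (⊥ : Ideal T)) (J := x.asIdeal) bot_le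
        rw [HenselBranchLib.minimal_unique A S N hB hcov M P P' hP hP' hPM (hle.trans hx)]
        exact hle
      · obtain ⟨M', hM', hxM⟩ := Ideal.exists_le_maximal x.asIdeal x.2.ne_top
        have := (EtLocalRingLib.existsUnique_maximal S T P).unique ⟨hM', hx.trans hxM⟩ ⟨inferInstance, hPM⟩
        exact hxM.trans this.le
    refine Order.krullDim_eq_of_orderIso ((IsLocalization.AtPrime.primeSpectrumOrderIso _ M).trans
      ((OrderIso.setCongr _ _ hset).trans ((OrderIso.setCongr _ _ (CatLib.range_quotEmb P).symm).trans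
        (CatLib.quotEmb P).orderIso.symm)))
  -- incomparability over the normalization
  have hlt : StrictMono (PrimeSpectrum.comap (algebraMap N T)) := fun Q Q' hQ => by
    refine lt_of_le_of_ne (Ideal.comap_mono hQ.le) fun h => ?_
    have h1 : (Q.asIdeal.comap (algebraMap S T)).comap (algebraMap A S) =
        (Q'.asIdeal.comap (algebraMap S T)).comap (algebraMap A S) := by
      rw [Ideal.comap_comap, Ideal.comap_comap, ← IsScalarTower.algebraMap_eq A S T,
        IsScalarTower.algebraMap_eq A N T, ← Ideal.comap_comap, ← Ideal.comap_comap]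
      exact congrArg (Ideal.comap _) (congrArg PrimeSpectrum.asIdeal h)
    have h2 := HenselLib.eq_of_le_of_comap_eq hcov _ _ (Ideal.comap_mono hQ.le) h1
    exact (Ideal.IsIntegral.comap_lt_comap (R := S) (I := Q.asIdeal) (J := Q'.asIdeal) hQ).ne h2
  -- maximal ideals
  have hmax : ∀ (M : Ideal T) [M.IsMaximal], (M.comap (algebraMap N T)).IsMaximal := by
    intro M _
    haveI : (M.comap (algebraMap S T)).IsMaximal := Ideal.isMaximal_comap_of_isIntegral_of_isMaximal M
    refine Ideal.isMaximal_of_isIntegral_of_isMaximal_comap (R := A) _ ?_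
    rw [Ideal.comap_comap, ← IsScalarTower.algebraMap_eq A N T, IsScalarTower.algebraMap_eq A S T,
      ← Ideal.comap_comap, IsLocalRing.eq_maximalIdeal ‹(M.comap (algebraMap S T)).IsMaximal›,
      ((IsLocalRing.local_hom_TFAE (algebraMap A S)).out 0 4 :).1 inferInstance]
    exact maximalIdeal.isMaximal A
  have hdim : ∀ (M : Ideal T) [M.IsMaximal],
      ringKrullDim (Localization.AtPrime M) = ringKrullDim (Localization.AtPrime (M.comap (algebraMap N T))) := by
    intro M _
    let n := M.comap (algebraMap N T)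
    let f := IsLocalization.AtPrime.primeSpectrumOrderIso (Localization.AtPrime M) M
    let f' := IsLocalization.AtPrime.primeSpectrumOrderIso (Localization.AtPrime n) n
    show Order.krullDim _ = Order.krullDim _
    rw [Order.krullDim_eq_of_orderIso f, Order.krullDim_eq_of_orderIso f']
    refine le_antisymm (Order.krullDim_le_of_strictMono
      (fun Q => ⟨PrimeSpectrum.comap (algebraMap N T) Q.1, Ideal.comap_mono (show Q.1.asIdeal ≤ M from Q.2)⟩)
      fun Q Q' h => hlt h) ?_
    refine iSup_le fun l => ?_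
    let l' : LTSeries (PrimeSpectrum N) := l.map (fun x => x.1) fun _ _ h => h
    haveI : M.LiesOver n := ⟨rfl⟩
    obtain ⟨Q, hQM, hQp, hQo⟩ := Ideal.exists_ideal_le_liesOver_of_le (R := N) (S := T) M (p := l'.last.asIdeal)
      (q := n) (show l'.last.asIdeal ≤ n from l.last.2)
    obtain ⟨L, hL, hlast, -⟩ := Ideal.exists_ltSeries_of_hasGoingDown l' Q
    let L' : LTSeries (Set.Iic (⟨M, inferInstance⟩ : PrimeSpectrum T)) := ⟨L.length,
      fun i => ⟨L i, (LTSeries.monotone L (Fin.le_last i)).trans (hlast.le.trans hQM)⟩, fun i => L.step i⟩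
    exact le_iSup_of_le L' (by show _ ≤ ((L.length : ℕ∞) : WithBot ℕ∞); rw [hL]; rfl)
  constructor
  · intro h p hp
    obtain ⟨P, hP, rfl⟩ := hbij.surjOn hp
    haveI := hP.1.1
    obtain ⟨M, hM, hPM⟩ := Ideal.exists_le_maximal P hP.1.1.ne_top
    rw [← dim_quot_eq_of_integral S T P, ← hloc M P hP hPM, hdim M]
    exact h ⟨_, hmax M⟩
  · intro h m'
    obtain ⟨Q, hQ⟩ := PrimeSpectrum.comap_surjective_of_faithfullyFlat (B := T)
      (⟨m'.asIdeal, m'.isMaximal.isPrime⟩ : PrimeSpectrum N)
    obtain ⟨M, hM, hQM⟩ := Ideal.exists_le_maximal Q.asIdeal Q.2.ne_top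
    have hMn : m'.asIdeal = M.comap (algebraMap N T) := m'.isMaximal.eq_of_le (hmax M).ne_top
      ((congrArg PrimeSpectrum.asIdeal hQ).ge.trans (Ideal.comap_mono hQM))
    obtain ⟨P, hP, hPM⟩ := Ideal.exists_minimalPrimes_le (I := (⊥ : Ideal T)) (J := M) bot_le
    have h2 := h _ (hbij.mapsTo hP)
    rw [← dim_quot_eq_of_integral S T P, ← hloc M P hP hPM, hdim M] at h2
    obtain ⟨m, hm⟩ := m'
    subst hMn
    exact h2

end Norm

end EtGenLib
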