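import Groth.Agent.S0538
import Groth.Agent.S0539
import Groth.Agent.S0540
import Groth.Agent.S9279
import Groth.Agent.HenselLib.LocalCover
import Groth.Agent.HenselBranchLib.Completion
import Groth.Agent.GeomRedFibLib.CplQuot
import Groth.Agent.CatLib.Completion
import Groth.Agent.EtAlgCplLib.Compositum

/-!
# Completions of strict henselizations; isolated branches of dimension one
-/

set_option autoImplicit false
set_option maxHeartbeats 1000000
set_option linter.style.haveILetI false

universe u

open IsLocalRing EGA4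

namespace EtGenLib

/-- A completion of a quotient. -/
theorem exists_quot_equiv (T : Type u) [CommRing T] [IsLocalRing T] [IsNoetherianRing T] (I : Ideal T)
    [Nontrivial (T ⧸ I)] : Nonempty (Cpl T ⧸ I.map (algebraMap T (Cpl T)) ≃+* Cpl (T ⧸ I)) := by
  obtain ⟨e⟩ := GeomRedFibLib.exists_cplQuotEquiv T I
  exact ⟨((Algebra.TensorProduct.quotIdealMapEquivTensorQuot (Cpl T) I).toRingEquiv.trans
    (Algebra.TensorProduct.comm T (Cpl T) (T ⧸ I)).toRingEquiv).trans e.toRingEquiv⟩

theorem dim_quot (T : Type u) [CommRing T] [IsLocalRing T] [IsNoetherianRing T] (I : Ideal T) [Nontrivial (T ⧸ I)] :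
    ringKrullDim (Cpl T ⧸ I.map (algebraMap T (Cpl T))) = ringKrullDim (T ⧸ I) := by
  obtain ⟨e⟩ := exists_quot_equiv T I
  haveI : IsLocalRing (T ⧸ I) := IsLocalRing.of_surjective' _ Ideal.Quotient.mk_surjective
  rw [ringKrullDim_eq_of_ringEquiv e, CatLib.ringKrullDim_cpl]

theorem isHenselization_self (D : Type u) [CommRing D] [HenselianLocalRing D] [IsLocalHom (algebraMap D D)] :
    Hensel.IsHenselization D D where
  henselian := inferInstance
  universal T _ _ f _ := ⟨f, rfl, fun g hg => hg⟩

/-- A branch of dimension one of the completion of a henselian local domain forces dimension one. -/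
theorem dim_eq_one_of_branch (D : Type u) [CommRing D] [HenselianLocalRing D] [IsNoetherianRing D] [IsDomain D]
    (P : Ideal (Cpl D)) (hP : P ∈ minimalPrimes (Cpl D)) (hd : ringKrullDim (Cpl D ⧸ P) = 1) :
    ringKrullDim D = 1 := by
  haveI := AdicRingLib.isNoetherianRing_adicCompletion (maximalIdeal D)
  haveI : IsLocalHom (algebraMap D D) := ⟨fun _ h => h⟩
  haveI := isHenselization_self D
  haveI : P.IsPrime := hP.1.1
  have hU : IsPreconnected ({closedPoint D}ᶜ : Set (PrimeSpectrum D)) := by
    rcases ({closedPoint D}ᶜ : Set (PrimeSpectrum D)).eq_empty_or_nonempty with h | h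
    · rw [h]; exact isPreconnected_empty
    · have hopen : IsOpen ({closedPoint D}ᶜ : Set (PrimeSpectrum D)) :=
        ((PrimeSpectrum.isClosed_singleton_iff_isMaximal _).2 (maximalIdeal.isMaximal D)).isOpen_compl
      exact (PreirreducibleSpace.isPreirreducible_univ.open_subset hopen (Set.subset_univ _)).isPreconnected
  have hU' := (Groth.Agent.S9279.result D D).2 hU
  let Pt : PrimeSpectrum (Cpl D) := ⟨P, inferInstance⟩
  have hPm : P ≠ maximalIdeal (Cpl D) := fun h => by
    letI := (inferInstance : (maximalIdeal (Cpl D)).IsMaximal)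
    rw [h, ringKrullDim_eq_zero_of_isField ((Ideal.Quotient.maximal_ideal_iff_isField_quotient _).1
      (maximalIdeal.isMaximal _))] at hd
    exact zero_ne_one hd
  -- the primes above `P`
  have hab : ∀ x : PrimeSpectrum (Cpl D), Pt ≤ x → x = Pt ∨ x = closedPoint _ := by
    intro x hx
    by_contra hne
    rw [not_or] at hne
    have h1 : Pt < x := lt_of_le_of_ne hx (Ne.symm hne.1)
    have h2 : x < closedPoint _ := lt_of_le_of_ne (le_maximalIdeal x.2.ne_top) hne.2
    let l : LTSeries (PrimeSpectrum (Cpl D)) := ⟨2, ![Pt, x, closedPoint _], fun i => by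
      fin_cases i
      · exact h1
      · exact h2⟩
    obtain ⟨t, ht, -⟩ := CatLib.length_le_dim_quotient l P le_rfl
    have := (Order.LTSeries.length_le_krullDim t).trans_eq hd
    rw [ht] at this
    have hl : l.length = 2 := rfl
    rw [hl] at this
    exact absurd (show (2 : ℕ) ≤ 1 by exact_mod_cast this) (by omega)
  let others : Set (Ideal (Cpl D)) := minimalPrimes (Cpl D) \ {P}
  have hfin : others.Finite := (minimalPrimes.finite_of_isNoetherianRing (Cpl D)).subset Set.diff_subset
  let W : Set (PrimeSpectrum (Cpl D)) := ⋃ q ∈ others, PrimeSpectrum.zeroLocus (q : Set (Cpl D))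
  have hWc : IsClosed W := hfin.isClosed_biUnion fun q _ => PrimeSpectrum.isClosed_zeroLocus _
  have hPW : Pt ∉ W := by
    simp only [W, Set.mem_iUnion, not_exists]
    intro q hq hqP
    exact hq.2 (le_antisymm ((PrimeSpectrum.mem_zeroLocus _ _).1 hqP) (hP.2 hq.1.1 ((PrimeSpectrum.mem_zeroLocus _ _).1 hqP)))
  have hcov : ({closedPoint (Cpl D)}ᶜ : Set (PrimeSpectrum (Cpl D))) ⊆
      PrimeSpectrum.zeroLocus (P : Set (Cpl D)) ∪ W := by
    intro x _
    obtain ⟨q, hq, hqx⟩ := Ideal.exists_minimalPrimes_le (I := (⊥ : Ideal (Cpl D))) (J := x.asIdeal) bot_le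
    by_cases h : q = P
    · exact Or.inl ((PrimeSpectrum.mem_zeroLocus _ _).2 (h ▸ hqx))
    · exact Or.inr (Set.mem_biUnion (show q ∈ others from ⟨hq, h⟩) ((PrimeSpectrum.mem_zeroLocus _ _).2 hqx))
  have hPU : Pt ∈ ({closedPoint (Cpl D)}ᶜ : Set (PrimeSpectrum (Cpl D))) := fun h =>
    hPm (congrArg PrimeSpectrum.asIdeal h)
  have hall : ∀ x : PrimeSpectrum (Cpl D), x ≠ closedPoint _ → x = Pt := by
    intro x hx
    by_contra hne
    have hxW : x ∈ W := (hcov hx).resolve_left fun h => (hab x ((PrimeSpectrum.mem_zeroLocus _ _).1 h)).elim hne hx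
    obtain ⟨y, hy, hy1, hy2⟩ := (isPreconnected_closed_iff.1 hU') _ W (PrimeSpectrum.isClosed_zeroLocus _) hWc hcov
      ⟨Pt, hPU, (PrimeSpectrum.mem_zeroLocus _ _).2 le_rfl⟩ ⟨x, hx, hxW⟩
    rcases hab y ((PrimeSpectrum.mem_zeroLocus _ _).1 hy1) with rfl | rfl
    · exact hPW hy2
    · exact hy rfl
  rw [← CatLib.ringKrullDim_cpl D, ← hd]
  refine le_antisymm ?_ (ringKrullDim_quotient_le P)
  refine iSup_le fun l => ?_
  obtain ⟨t, ht, -⟩ := CatLib.length_le_dim_quotient l P (by
    by_cases h : l.head = closedPoint _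
    · rw [h]; exact le_maximalIdeal Ideal.IsPrime.ne_top'
    · rw [hall _ h])
  rw [← ht]
  exact Order.LTSeries.length_le_krullDim t

variable (A : Type u) [CommRing A] [IsNoetherianRing A] [IsLocalRing A]
  (S : Type u) [CommRing S] [IsLocalRing S] [Algebra A S] [IsLocalHom (algebraMap A S)]
  [Hensel.IsStrictHenselization A S]
  (T : Type u) [CommRing T] [IsLocalRing T] [Algebra (Cpl A) T] [IsLocalHom (algebraMap (Cpl A) T)]
  [Hensel.IsStrictHenselization (Cpl A) T]

/-- The strict henselizations of a local ring and of its completion have the same completion. -/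
theorem exists_comparison : ∃ (g : S →+* T) (e : Cpl S ≃+* Cpl T),
    g.comp (algebraMap A S) = (algebraMap (Cpl A) T).comp (algebraMap A (Cpl A)) ∧
      ∀ s, e (algebraMap S (Cpl S) s) = algebraMap T (Cpl T) (g s) := by
  classical
  haveI := AdicRingLib.isNoetherianRing_adicCompletion (maximalIdeal A)
  haveI : IsNoetherianRing S := (Groth.Agent.S0540.result A S).1 inferInstance
  haveI : IsNoetherianRing T := (Groth.Agent.S0540.result (Cpl A) T).1 inferInstance
  haveI hSh : HenselianLocalRing S := Hensel.IsStrictHenselization.henselian A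
  haveI hTh : HenselianLocalRing T := Hensel.IsStrictHenselization.henselian (Cpl A)
  have hmA : maximalIdeal (Cpl A) = (maximalIdeal A).map (algebraMap A (Cpl A)) := AdicCompletion.maximalIdeal_eq_map ..
  have hmS := Groth.Agent.S0538.result A S
  have hmT := Groth.Agent.S0538.result (Cpl A) T
  rw [hmA, Ideal.map_map] at hmT
  let f : A →+* T := (algebraMap (Cpl A) T).comp (algebraMap A (Cpl A))
  haveI : IsLocalHom (algebraMap A (Cpl A)) := by
    refine ⟨fun a ha => ?_⟩
    by_contra h
    exact (mem_maximalIdeal _).1 (hmA.ge (Ideal.mem_map_of_mem _ ((mem_maximalIdeal a).2 h))) ha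
  haveI : IsLocalHom f := RingHom.isLocalHom_comp _ _
  -- residue fields
  let kA := ResidueField A
  let kS := ResidueField S
  let kT := ResidueField T
  letI : Algebra A T := f.toAlgebra
  haveI : IsLocalHom (algebraMap A T) := ‹IsLocalHom f›
  haveI : IsSepClosure kA kS := Hensel.IsStrictHenselization.isSepClosure
  haveI : IsSepClosure kA kT := by
    haveI hT : IsSepClosure (ResidueField (Cpl A)) kT := Hensel.IsStrictHenselization.isSepClosure
    have hsurj : Function.Surjective (ResidueField.map (algebraMap A (Cpl A))) := by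
      intro z
      obtain ⟨x, rfl⟩ := residue_surjective z
      obtain ⟨a, ha⟩ := AdicRingLib.exists_sub_mem_map_pow (IsNoetherian.noetherian (maximalIdeal A)) 1 x
      rw [pow_one, ← hmA] at ha
      refine ⟨residue A a, ?_⟩
      rw [ResidueField.map_residue]
      exact (Ideal.Quotient.mk_eq_mk_iff_sub_mem _ _).2 (by simpa using (maximalIdeal (Cpl A)).neg_mem ha)
    haveI : IsScalarTower kA (ResidueField (Cpl A)) kT := IsScalarTower.of_algebraMap_eq fun x => by
      obtain ⟨a, rfl⟩ := residue_surjective x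
      rfl
    refine ⟨hT.sep_closed, ?_⟩
    haveI := hT.separable
    haveI : Module.Finite kA (ResidueField (Cpl A)) := Module.Finite.of_surjective (Algebra.linearMap _ _) hsurj
    haveI : Algebra.IsSeparable kA (ResidueField (Cpl A)) := ⟨fun y => by
      obtain ⟨x, rfl⟩ := hsurj y
      exact isSeparable_algebraMap x⟩
    exact Algebra.IsSeparable.trans kA (ResidueField (Cpl A)) kT
  let φ := IsSepClosure.equiv kA kS kT
  obtain ⟨g, ⟨hgA, hgres⟩, -⟩ := Hensel.IsStrictHenselization.universal (R := A) (S := S) T f φ.toAlgHom.toRingHom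
    (RingHom.ext fun x => φ.commutes x)
  have hgm : (maximalIdeal S).map g = maximalIdeal T := by
    rw [← hmS, Ideal.map_map, hgA]; exact hmT
  -- completions
  haveI : HenselianLocalRing (Cpl S) := HenselBranchLib.henselianLocalRing_completion S
  have hSm : maximalIdeal (Cpl S) = (maximalIdeal S).map (algebraMap S (Cpl S)) := AdicCompletion.maximalIdeal_eq_map ..
  have hTm : maximalIdeal (Cpl T) = (maximalIdeal T).map (algebraMap T (Cpl T)) := AdicCompletion.maximalIdeal_eq_map ..
  have hAS : (maximalIdeal A).map (algebraMap A S) ≤ maximalIdeal S := hmS.le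
  obtain ⟨ψA, hψA⟩ := EtAlgCplLib.exists_psi (algebraMap A S) hAS
  haveI : IsLocalHom ψA := by
    refine (IsLocalRing.local_hom_TFAE ψA).out 2 0 |>.1 ?_
    rw [hmA, Ideal.map_map, show ψA.comp (algebraMap A (Cpl A)) = (algebraMap S (Cpl S)).comp (algebraMap A S) from
      RingHom.ext hψA, ← Ideal.map_map, hmS, hSm]
  haveI : IsLocalHom (algebraMap S (Cpl S)) := by
    refine (IsLocalRing.local_hom_TFAE _).out 2 0 |>.1 ?_
    rw [← hSm]
  let τ : kT →+* ResidueField (Cpl S) := (ResidueField.map (algebraMap S (Cpl S))).comp φ.symm.toAlgHom.toRingHom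
  obtain ⟨h, ⟨hhA, hhres⟩, -⟩ := Hensel.IsStrictHenselization.universal (R := Cpl A) (S := T) (Cpl S) ψA τ
    (RingHom.ext fun z => by
      obtain ⟨x, rfl⟩ := residue_surjective z
      obtain ⟨a, ha⟩ := AdicRingLib.exists_sub_mem_map_pow (IsNoetherian.noetherian (maximalIdeal A)) 1 x
      rw [pow_one, ← hmA] at ha
      have hx : residue (Cpl A) x = residue (Cpl A) (algebraMap A (Cpl A) a) :=
        (Ideal.Quotient.mk_eq_mk_iff_sub_mem _ _).2 ha
      simp only [RingHom.comp_apply]
      rw [hx, ResidueField.map_residue, ResidueField.map_residue, hψA]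
      show ResidueField.map (algebraMap S (Cpl S)) (φ.symm (algebraMap kA kT (residue A a))) = _
      rw [AlgEquiv.commutes]
      rfl)
  have hhg : h.comp g = algebraMap S (Cpl S) := by
    obtain ⟨c, -, huniq⟩ := Hensel.IsStrictHenselization.universal (R := A) (S := S) (Cpl S)
      ((algebraMap S (Cpl S)).comp (algebraMap A S)) (ResidueField.map (algebraMap S (Cpl S)))
      (RingHom.ext fun z => by
        obtain ⟨a, rfl⟩ := residue_surjective z
        rfl)
    refine (huniq _ ⟨?_, fun x => ?_⟩).trans (huniq _ ⟨rfl, fun x => rfl⟩).symm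
    · rw [RingHom.comp_assoc, hgA, ← RingHom.comp_assoc, hhA]
      exact RingHom.ext hψA
    · show residue (Cpl S) (h (g x)) = _
      rw [hhres, hgres]
      show ResidueField.map (algebraMap S (Cpl S)) (φ.symm (φ (residue S x))) = _
      rw [AlgEquiv.symm_apply_apply]
  -- the lifts
  have hgle : (maximalIdeal S).map g ≤ maximalIdeal T := hgm.le
  obtain ⟨gg, hgg⟩ := EtAlgCplLib.exists_psi g hgle
  have hhm : (maximalIdeal T).map h ≤ maximalIdeal (Cpl S) := by
    rw [← hgm, Ideal.map_map, hhg, hSm]
  haveI : IsAdicComplete (maximalIdeal (Cpl S)) (Cpl S) :=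
    hSm ▸ AdicRingLib.isAdicComplete_map (IsNoetherian.noetherian _)
  haveI : IsAdicComplete (maximalIdeal (Cpl T)) (Cpl T) :=
    hTm ▸ AdicRingLib.isAdicComplete_map (IsNoetherian.noetherian _)
  let hh := CompleteLib.completionLift (maximalIdeal T) (maximalIdeal (Cpl S)) h hhm
  have hhh : ∀ t, hh (algebraMap T (Cpl T) t) = h t :=
    fun t => CompleteLib.completionLift_algebraMap (maximalIdeal T) (maximalIdeal (Cpl S)) h hhm t
  have hid : hh.comp gg = RingHom.id _ :=
    EtAlgCplLib.hom_ext (RingHom.id S) (by rw [Ideal.map_id]) _ _ (fun s => by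
      show hh (gg (algebraMap S (Cpl S) s)) = _
      rw [hgg, hhh]; exact RingHom.congr_fun hhg s) fun s => rfl
  -- density of `S` in `T`
  have hdense : ∀ (n : ℕ) (t : T), ∃ s, t - g s ∈ maximalIdeal T ^ n := by
    intro n
    induction n with
    | zero => exact fun t => ⟨0, by simp⟩
    | succ n ih =>
      intro t
      obtain ⟨s, hs⟩ := ih t
      rw [← hgm, ← Ideal.map_pow] at hs
      suffices ∀ y ∈ (maximalIdeal S ^ n).map g, ∃ s', y - g s' ∈ maximalIdeal T ^ (n + 1) by
        obtain ⟨s', hs'⟩ := this _ hs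
        exact ⟨s + s', by rw [map_add, ← sub_sub]; exact hs'⟩
      intro y hy
      induction hy using Submodule.span_induction with
      | mem z hz => obtain ⟨a, -, rfl⟩ := hz; exact ⟨a, by simp⟩
      | zero => exact ⟨0, by simp⟩
      | add a b _ _ ha hb =>
        obtain ⟨a', ha'⟩ := ha
        obtain ⟨b', hb'⟩ := hb
        exact ⟨a' + b', by rw [map_add, add_sub_add_comm]; exact add_mem ha' hb'⟩
      | smul c z hz hy =>
        obtain ⟨z', hz'⟩ := hy
        obtain ⟨c₀, hc₀⟩ := residue_surjective (φ.symm (residue T c))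
        have hc : c - g c₀ ∈ maximalIdeal T := by
          refine (Ideal.Quotient.mk_eq_mk_iff_sub_mem _ _).1 (show residue T c = residue T (g c₀) from ?_)
          rw [hgres, hc₀]
          exact (φ.apply_symm_apply _).symm
        have hzn : z ∈ maximalIdeal T ^ n := by rw [← hgm, ← Ideal.map_pow]; exact hz
        refine ⟨c₀ * z', ?_⟩
        rw [smul_eq_mul, show c * z - g (c₀ * z') = (c - g c₀) * z + g c₀ * (z - g z') by rw [map_mul]; ring]
        exact add_mem (by rw [pow_succ']; exact Ideal.mul_mem_mul hc hzn) (Ideal.mul_mem_left _ _ hz')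
  have hgh : ∀ t, gg (h t) = algebraMap T (Cpl T) t := by
    intro t
    refine sub_eq_zero.1 (IsHausdorff.haus (I := maximalIdeal (Cpl T)) inferInstance _ fun n => ?_)
    rw [SModEq.sub_mem, sub_zero, smul_eq_mul, Ideal.mul_top]
    obtain ⟨s, hs⟩ := hdense n t
    rw [show gg (h t) - algebraMap T (Cpl T) t =
        gg (h (t - g s)) - algebraMap T (Cpl T) (t - g s) by
      rw [map_sub, map_sub, map_sub, show h (g s) = algebraMap S (Cpl S) s from RingHom.congr_fun hhg s, hgg]; ring]
    refine sub_mem ?_ (by rw [hTm, ← Ideal.map_pow]; exact Ideal.mem_map_of_mem _ hs)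
    have h1 : h (t - g s) ∈ maximalIdeal (Cpl S) ^ n :=
      Ideal.pow_right_mono hhm n (by rw [← Ideal.map_pow]; exact Ideal.mem_map_of_mem _ hs)
    have h2 : (maximalIdeal (Cpl S)).map gg ≤ maximalIdeal (Cpl T) := by
      rw [hSm, Ideal.map_map, show gg.comp (algebraMap S (Cpl S)) = (algebraMap T (Cpl T)).comp g from RingHom.ext hgg,
        ← Ideal.map_map, hgm, hTm]
    exact Ideal.pow_right_mono h2 n (by rw [← Ideal.map_pow]; exact Ideal.mem_map_of_mem _ h1)
  have hid' : gg.comp hh = RingHom.id _ :=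
    EtAlgCplLib.hom_ext (RingHom.id T) (by rw [Ideal.map_id]) _ _ (fun t => by
      show gg (hh (algebraMap T (Cpl T) t)) = _
      rw [hhh]; exact hgh t) fun t => rfl
  exact ⟨g, RingEquiv.ofRingHom gg hh hid' hid, hgA, hgg⟩

end EtGenLib
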